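import Groth.Prelude.Def_MoreMor
import Groth.Agent.Synt29.ConormalStalk
import Groth.Agent.UnivThick.Ring
import Groth.Agent.KFlatLib.Scheme.Exact

/-!
# A first order thickening with zero conormal sheaf is an isomorphism
-/

set_option autoImplicit false
set_option linter.style.haveILetI false
set_option backward.isDefEq.respectTransparency false

universe u

open CategoryTheory CategoryTheory.Limits AlgebraicGeometry TopologicalSpace Opposite
open Groth.Agent.Synt29 Groth.Agent.Synt29.ConormalStalk Groth.Agent.Synt29.OmegaStalk Groth.Agent.KFlatLib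

namespace Groth.Agent.FlatEtaleHx

variable {Z X : Scheme.{u}} (i : Z ⟶ X) [IsClosedImmersion i]

theorem stalk_ker_mul_eq_zero (h2 : i.ker * i.ker = ⊥) (x : Z) (a b : X.presheaf.stalk (i x))
    (ha : i.stalkMap x a = 0) (hb : i.stalkMap x b = 0) : a * b = 0 := by
  obtain ⟨W, hW, -, e, he, rfl⟩ := exists_killed i a ha ⊤ trivial
  obtain ⟨W', hW', hle, e', he', rfl⟩ := exists_killed i b hb W hW
  obtain ⟨V, hV, hxV, hVW'⟩ := exists_isAffineOpen_mem_and_subset (x := i x) (U := W') hW'
  have hVW : V ≤ W := fun y hy => hle (hVW' hy)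
  have hVW'' : V ≤ W' := fun y hy => hVW' hy
  have key : ∀ {O : X.Opens} (hVO : V ≤ O) (s : Γ(X, O)), i.app O s = 0 →
      X.presheaf.map (homOfLE hVO).op s ∈ i.ker.ideal ⟨V, hV⟩ := fun {O} hVO s hs => by
    rw [Scheme.Hom.ker_apply, RingHom.mem_ker]
    refine (congr($(i.naturality (homOfLE hVO).op) s)).trans ?_
    rw [ConcreteCategory.comp_apply, hs, map_zero]
  have h := Ideal.mul_mem_mul (key hVW e he) (key hVW'' e' he')
  have hz : X.presheaf.map (homOfLE hVW).op e * X.presheaf.map (homOfLE hVW'').op e' = 0 := by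
    have h0 := congr(($h2).ideal ⟨V, hV⟩)
    simp only [Scheme.IdealSheafData.ideal_mul, Pi.mul_apply, Scheme.IdealSheafData.ideal_bot,
      Pi.bot_apply] at h0
    rw [h0] at h
    exact h
  rw [← X.presheaf.germ_res_apply (homOfLE hVW) (i x) hxV e,
    ← X.presheaf.germ_res_apply (homOfLE hVW'') (i x) hxV e', ← map_mul, hz, map_zero]

theorem stalkMap_injective (h2 : i.ker * i.ker = ⊥) (hz : IsZero (Omega.conormal i)) (x : Z) :
    Function.Injective (i.stalkMap x) := by
  rw [injective_iff_map_eq_zero]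
  intro a ha
  obtain ⟨m, hm⟩ := exists_rep i ha
  let P := (stalkPullbackIso i x).app (I i)
  have hzero : IsZero ((ModuleCat.extendScalars (i.stalkMap x).hom).obj (St (I i) (i x))) :=
    IsZero.of_iso (Functor.map_isZero (DerSch.stalkFunctor Z x) hz) P.symm
  have h0 : unit1 i x m = 0 := (ModuleCat.subsingleton_of_isZero hzero).elim _ _
  letI := (i.stalkMap x).hom.toAlgebra
  have hmem := UnivThick.mem_smul_top_of_one_tmul_eq_zero (S := Z.presheaf.stalk x) (i.stalkMap_surjective x) m h0
  have hm0 : m = 0 := by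
    refine Submodule.smul_induction_on hmem (fun r hr n _ => ?_) (fun _ _ h h' => by rw [h, h', add_zero])
    obtain ⟨b, hb⟩ := rep_exists i (i x) n
    have hr' := rep_smul i hb r
    rw [stalk_ker_mul_eq_zero i h2 x r b hr (rep_mem i hb)] at hr'
    exact rep_inj i hr' (rep_zero i (i x))
  subst hm0
  obtain ⟨U, hy, k, hk, hka⟩ := hm
  obtain ⟨U', hy', k', hk', hka'⟩ := rep_zero i (i x)
  rw [← hka]
  obtain ⟨W, hyW, j, j', e⟩ := (I i).presheaf.germ_eq (i x) hy hy' k k' (hk.trans hk'.symm)
  rw [show j = homOfLE (leOfHom j) from rfl, show j' = homOfLE (leOfHom j') from rfl] at e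
  rw [← X.presheaf.germ_res_apply (homOfLE (leOfHom j)) (i x) hyW]
  have e' := congrArg (OmegaSh.idealSect i.ker W) e
  erw [OmegaLib.idealSect_map, OmegaLib.idealSect_map] at e'
  erw [e']
  rw [X.presheaf.germ_res_apply]
  exact hka'

theorem isIso_of_isZero_conormal (ht : MoreMor.IsFirstOrderThickening i) (hz : IsZero (Omega.conormal i)) : IsIso i := by
  have hs := ht.1.2
  haveI : ∀ x, IsIso (i.stalkMap x) := fun x => (ConcreteCategory.isIso_iff_bijective _).2
    ⟨stalkMap_injective i ht.2 hz x, i.stalkMap_surjective x⟩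
  have ho : Topology.IsOpenEmbedding i := by
    refine ⟨i.isEmbedding, ?_⟩
    rw [Set.range_eq_univ.2 i.surjective]
    exact isOpen_univ
  haveI := IsOpenImmersion.of_isIso_stalkMap i ho
  refine isIso_of_isOpenImmersion_of_opensRange_eq_top i ?_
  exact Opens.ext (Set.range_eq_univ.2 i.surjective)

theorem isZero_conormal_of_isIso [IsIso i] : IsZero (Omega.conormal i) := by
  refine KFlatLib.isZero_of_stalk _ fun x => ?_
  refine IsZero.of_iso ?_ ((stalkPullbackIso i x).app (I i))
  have hss : Subsingleton (St (I i) (i x)) := ⟨fun m n => by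
    obtain ⟨a, ha⟩ := rep_exists i (i x) m
    obtain ⟨b, hb⟩ := rep_exists i (i x) n
    have hinj := (ConcreteCategory.bijective_of_isIso (i.stalkMap x)).1
    have h1 : a = 0 := hinj ((rep_mem i ha).trans (map_zero _).symm)
    have h2 : b = 0 := hinj ((rep_mem i hb).trans (map_zero _).symm)
    rw [h1] at ha; rw [h2] at hb
    exact rep_inj i ha hb⟩
  exact Functor.map_isZero (ModuleCat.extendScalars (i.stalkMap x).hom) (ModuleCat.isZero_of_subsingleton _)

end Groth.Agent.FlatEtaleHx
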